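import Cfsg.Agent.Lib.Fusion.MetaType.Witness
import Cfsg.Agent.Lib.PGroup.MetacyclicAction
import Cfsg.Agent.Lib.MetacyclicTwoAut
import Cfsg.Agent.Lib.Elementary
import Cfsg.Agent.Lib.Basic
import Cfsg.Agent.S4207
import Cfsg.Agent.S5212
import Cfsg.Agent.S5234
import Mathlib.GroupTheory.SpecificGroups.KleinFour

/-!
Metacyclic `p`-groups over which every saturated fusion system is supersoluble.
-/

set_option autoImplicit false
set_option linter.unusedSectionVars false
set_option linter.style.haveILetI false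

namespace Cfsg.MetaType

open Cfsg FusionSystem CfsgLib

universe u

section Autos

variable {X : Type u} [Group X] [Finite X] {p : ℕ} [Fact p.Prime]

theorem finite_mulAut : Finite (MulAut X) :=
  Finite.of_injective (fun f => (f : X → X)) DFunLike.coe_injective

theorem index_frattini_le (hX : IsPGroup p X) (hm : Cfsg.IsMetacyclic X) : (frattini X).index ≤ p ^ 2 := by
  classical
  obtain ⟨N, hN, hNc, hNq⟩ := hm
  obtain ⟨a, ha⟩ := IsCyclic.exists_generator (α := N)
  obtain ⟨bq, hbq⟩ := IsCyclic.exists_generator (α := X ⧸ N)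
  obtain ⟨b, rfl⟩ := QuotientGroup.mk'_surjective N bq
  let π := QuotientGroup.mk' (frattini X)
  have hA : (Subgroup.zpowers (π a) ⊔ Subgroup.zpowers (π b)) = ⊤ := by
    rw [eq_top_iff]
    intro q _
    obtain ⟨x, rfl⟩ := QuotientGroup.mk'_surjective (frattini X) q
    obtain ⟨i, hi⟩ := hbq (QuotientGroup.mk' N x)
    have hi' : (b ^ i)⁻¹ * x ∈ N := by
      rw [← QuotientGroup.eq_one_iff, QuotientGroup.mk_mul, QuotientGroup.mk_inv, QuotientGroup.mk_zpow]
      exact inv_mul_eq_one.2 hi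
    obtain ⟨j, hj⟩ := ha ⟨_, hi'⟩
    have hj' : (a : X) ^ j = (b ^ i)⁻¹ * x := congrArg Subtype.val hj
    rw [show x = b ^ i * (a : X) ^ j by rw [hj', mul_inv_cancel_left]]
    rw [show QuotientGroup.mk' (frattini X) (b ^ i * (a : X) ^ j) = π b ^ i * π a ^ j by simp [π]]
    exact mul_mem (Subgroup.mem_sup_right ⟨i, rfl⟩) (Subgroup.mem_sup_left ⟨j, rfl⟩)
  have hcomm : ∀ q r : X ⧸ frattini X, q * r = r * q := fun q r => by
    haveI := (Subgroup.Normal.quotient_commutative_iff_commutator_le (N := frattini X)).mpr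
      (commutator_le_frattini_pGroup hX)
    exact Std.Commutative.comm q r
  haveI : (Subgroup.zpowers (π b)).Normal := ⟨fun n hn g => by rwa [hcomm g n, mul_inv_cancel_right]⟩
  have hord : ∀ x : X, Nat.card ↥(Subgroup.zpowers (π x)) ≤ p := fun x => by
    rw [Nat.card_zpowers]
    refine Nat.le_of_dvd (Fact.out : p.Prime).pos (orderOf_dvd_of_pow_eq_one ?_)
    rw [← map_pow]
    exact (QuotientGroup.eq_one_iff _).2 (pow_mem_frattini_pGroup hX x)
  have h := Nat.le_of_dvd (Nat.mul_pos Nat.card_pos Nat.card_pos)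
    (CfsgLib.card_sup_dvd_mul (Subgroup.zpowers (π a)) (Subgroup.zpowers (π b)))
  rw [hA, Subgroup.card_top, ← Subgroup.index_eq_card] at h
  exact h.trans (by rw [pow_two]; exact Nat.mul_le_mul (hord _) (hord _))

theorem eq_one_of_trivial_mod_frattini (hX : IsPGroup p X) {g : MulAut X} (hg : (orderOf g).Coprime p)
    (h : ∀ x, (QuotientGroup.mk (g x) : X ⧸ frattini X) = QuotientGroup.mk x) : g = 1 := by
  haveI := finite_mulAut (X := X)
  obtain ⟨n, hn⟩ := hX.exists_card_eq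
  obtain ⟨r, -, hr⟩ := (Nat.dvd_prime_pow Fact.out).1 (hn ▸ Subgroup.index_dvd_card (frattini X))
  have hd := Cfsg.Agent.S4207.aut_card_dvd hn hr (Subgroup.zpowers g) (by
    intro β hβ x
    obtain ⟨k, rfl⟩ := mem_powers_iff_mem_zpowers.2 hβ
    have hk : ∀ k : ℕ, (QuotientGroup.mk ((g ^ k) x) : X ⧸ frattini X) = QuotientGroup.mk x := by
      intro k
      induction k with
      | zero => rfl
      | succ k ih => rw [pow_succ', MulAut.mul_apply, h, ih]
    rw [← div_eq_mul_inv, ← QuotientGroup.eq_iff_div_mem]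
    exact hk k)
  rw [Nat.card_zpowers] at hd
  exact orderOf_eq_one_iff.1 (Nat.eq_one_of_dvd_coprimes (hg.pow_right _) dvd_rfl hd)

/-- Coprime automorphism groups of non-abelian metacyclic groups of odd order. -/
theorem coprime_autos (hp : p ≠ 2) (hX : IsPGroup p X) (hm : Cfsg.IsMetacyclic X)
    (hnab : ¬ ∀ a b : X, a * b = b * a) (H : Subgroup (MulAut X)) (hH : (Nat.card H).Coprime p) :
    IsMulCommutative H ∧ ∀ h ∈ H, h ^ (p - 1) = 1 := by
  classical
  have hpp := (Fact.out : p.Prime)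
  haveI := finite_mulAut (X := X)
  obtain ⟨K, hK, hKtop⟩ : ∃ K : Subgroup X, (∀ h : H, ∀ r, r⁻¹ * (h : MulAut X) r ∈ K) ∧ K ≠ ⊤ := by
    by_contra hcon
    push Not at hcon
    exact hnab (MetaAction.commutative_of_generated hp hX hm H.subtype hH fun K hK => hcon K hK)
  obtain ⟨M, hM, hKM⟩ := (eq_top_or_exists_le_coatom K).resolve_left hKtop
  obtain ⟨hMn, hMi⟩ := index_coatom_pGroup hX hM
  have hΦM : frattini X ≤ M := frattini_le_coatom hM
  set π := QuotientGroup.mk' (frattini X)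
  have hMc : Nat.card (M.map π) ≤ p := by
    have h1 : (M.map π).index = p := by
      rw [Subgroup.index_map_eq _ (QuotientGroup.mk'_surjective _) (by rwa [QuotientGroup.ker_mk']), hMi]
    have h2 := Subgroup.card_mul_index (M.map π)
    rw [h1, ← Subgroup.index_eq_card] at h2
    have h3 := index_frattini_le hX hm
    rw [← h2, pow_two] at h3
    exact Nat.le_of_mul_le_mul_right h3 hpp.pos
  obtain ⟨m₀, hm₀, hgen⟩ : ∃ m₀ ∈ M, ∀ m ∈ M, ∃ j : ℕ, π m = π m₀ ^ j := by
    by_cases h : ∀ m ∈ M, π m = 1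
    · exact ⟨1, one_mem M, fun m hm' => ⟨1, by rw [h m hm', map_one, one_pow]⟩⟩
    · push Not at h
      obtain ⟨m₀, hm₀, hne⟩ := h
      have hop : orderOf (π m₀) = p := orderOf_eq_prime (by
        rw [← map_pow]; exact (QuotientGroup.eq_one_iff _).2 (pow_mem_frattini_pGroup hX m₀)) hne
      have hz : Subgroup.zpowers (π m₀) = M.map π :=
        Subgroup.eq_of_le_of_card_ge (Subgroup.zpowers_le.2 (Subgroup.mem_map_of_mem π hm₀))
          (by rw [Nat.card_zpowers, hop]; exact hMc)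
      refine ⟨m₀, hm₀, fun m hm' => ?_⟩
      obtain ⟨j, hj⟩ := mem_powers_iff_mem_zpowers.2 (hz.ge (Subgroup.mem_map_of_mem π hm'))
      exact ⟨j, hj.symm⟩
  -- the action on the Frattini quotient
  have hinv : ∀ (g : MulAut X) (x y : X), π x = π y → π (g x) = π (g y) := by
    intro g x y h
    apply QuotientGroup.eq.2
    rw [← map_inv, ← map_mul]
    have h1 : frattini X ≤ (frattini X).comap g.toMonoidHom :=
      (Subgroup.characteristic_iff_le_comap.1 inferInstance g)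
    exact h1 (QuotientGroup.eq.1 h)
  have hmod : ∀ g ∈ H, ∀ r, r⁻¹ * g r ∈ M := fun g hg r => hKM (hK ⟨g, hg⟩ r)
  have hMinv : ∀ g ∈ H, ∀ m ∈ M, g m ∈ M := fun g hg m hm' => by
    have := mul_mem hm' (hmod g hg m)
    rwa [mul_inv_cancel_left] at this
  choose lam hlam using fun g : H => hgen _ (hMinv g g.2 m₀ hm₀)
  have hpow : ∀ (g : MulAut X) (j : ℕ), π (g m₀) = π m₀ ^ j → ∀ k : ℕ, π ((g ^ k) m₀) = π m₀ ^ (j ^ k) := by
    intro g j hg k
    induction k with
    | zero => simp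
    | succ k ih =>
      rw [pow_succ', MulAut.mul_apply, pow_succ' j, pow_mul, ← hg, ← map_pow, ← map_pow]
      exact hinv g _ _ (by rw [ih, map_pow])
  -- an element fixing `m₀` modulo the Frattini subgroup is trivial
  have hfix : ∀ g ∈ H, π (g m₀) = π m₀ → g = 1 := by
    intro g hg h0
    have hfM : ∀ m ∈ M, π (g m) = π m := fun m hm' => by
      obtain ⟨j, hj⟩ := hgen m hm'
      rw [hinv g m (m₀ ^ j) (by rw [hj, map_pow]), map_pow, map_pow, h0, hj]
    have hk : ∀ (k : ℕ) (r : X), π ((g ^ k) r) = π r * π (r⁻¹ * g r) ^ k := by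
      intro k r
      induction k with
      | zero => simp
      | succ k ih =>
        have h1 : π ((g ^ (k + 1)) r) = π (g r) * π (r⁻¹ * g r) ^ k := by
          rw [pow_succ', MulAut.mul_apply, hinv g ((g ^ k) r) (r * (r⁻¹ * g r) ^ k) (ih.trans (by rw [← map_pow π, ← map_mul π])),
            map_mul g, map_pow g, map_mul π, map_pow π, hfM _ (hmod g hg r)]
        rw [h1, pow_succ', ← mul_assoc, ← map_mul, mul_inv_cancel_left]
    have hgp : g ^ p = 1 := by
      refine eq_one_of_trivial_mod_frattini hX ?_ fun x => ?_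
      · exact hH.coprime_dvd_left ((orderOf_pow_dvd p).trans (Subgroup.orderOf_dvd_natCard _ hg))
      · show π ((g ^ p) x) = π x
        rw [hk, ← map_pow, show π ((x⁻¹ * g x) ^ p) = 1 from (QuotientGroup.eq_one_iff _).2 (pow_mem_frattini_pGroup hX _), mul_one]
    refine orderOf_eq_one_iff.1 (Nat.eq_one_of_dvd_coprimes ?_ dvd_rfl (orderOf_dvd_of_pow_eq_one hgp))
    exact hH.coprime_dvd_left (Subgroup.orderOf_dvd_natCard _ hg)
  refine ⟨⟨⟨fun a b => ?_⟩⟩, fun h hh => ?_⟩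
  · have e : ∀ a b : H, π (((a : MulAut X) * (b : MulAut X)) m₀) = π m₀ ^ (lam a * lam b) := fun a b => by
      rw [MulAut.mul_apply, hinv (a : MulAut X) _ (m₀ ^ lam b) (by rw [hlam b, map_pow]), map_pow, map_pow, hlam a,
        ← pow_mul]
    have hc := hfix (((b : MulAut X) * a)⁻¹ * (a * b)) (mul_mem (inv_mem (mul_mem b.2 a.2)) (mul_mem a.2 b.2)) (by
      have h1 := hinv ((b : MulAut X) * a)⁻¹ _ _ ((e a b).trans ((congrArg _ (mul_comm _ _)).trans (e b a).symm))
      rw [MulAut.mul_apply]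
      refine h1.trans ?_
      rw [← MulAut.mul_apply, inv_mul_cancel, MulAut.one_apply])
    exact Subtype.ext (inv_mul_eq_one.1 hc).symm
  · refine hfix _ (pow_mem hh _) ?_
    rw [hpow h _ (hlam ⟨h, hh⟩)]
    by_cases h1 : π m₀ = 1
    · rw [h1, one_pow]
    have hop : orderOf (π m₀) = p := orderOf_eq_prime (by
      rw [← map_pow]; exact (QuotientGroup.eq_one_iff _).2 (pow_mem_frattini_pGroup hX m₀)) h1
    have hnd : ¬ p ∣ lam ⟨h, hh⟩ := fun hd => h1 (by
      have h2 : π (h m₀) = 1 := (hlam ⟨h, hh⟩).trans (orderOf_dvd_iff_pow_eq_one.1 (hop.symm ▸ hd))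
      have h3 := hinv h⁻¹ _ 1 (h2.trans (map_one π).symm)
      rwa [← MulAut.mul_apply, inv_mul_cancel, MulAut.one_apply, map_one, map_one] at h3)
    conv_rhs => rw [← pow_one (π m₀)]
    rw [pow_eq_pow_iff_modEq, hop, ← ZMod.natCast_eq_natCast_iff, Nat.cast_pow, Nat.cast_one]
    exact ZMod.pow_card_sub_one_eq_one (fun h0 => hnd ((ZMod.natCast_eq_zero_iff _ _).1 h0))

end Autos

variable {Ω : Type u} [Group Ω] {S : Subgroup Ω} [Finite S] {F : FusionSystem S} {p : ℕ} [Fact p.Prime]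

theorem supersoluble_of_abelian (hS : IsPGroup p S) (hm : Cfsg.IsMetacyclic S) (hab : IsMulCommutative S)
    (hF : F.IsSaturated p)
    (hh : ¬ ∃ n : ℕ, 0 < n ∧ Nonempty (↥S ≃* Multiplicative (ZMod (p ^ n)) × Multiplicative (ZMod (p ^ n)))) :
    F.IsSupersoluble := by
  refine supersoluble_of_distinct hS hab hF ?_
  rintro ⟨n, H, _, hn, ⟨e⟩⟩
  have hpp := (Fact.out : p.Prime)
  by_cases hH : Subsingleton H
  · haveI : Unique H := uniqueOfSubsingleton 1
    exact hh ⟨n, hn, ⟨e.trans MulEquiv.prodUnique⟩⟩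
  rw [not_subsingleton_iff_nontrivial] at hH
  haveI : Finite H := Finite.of_surjective (fun s => (e s).2) fun h => ⟨e.symm (1, h), by simp⟩
  obtain ⟨k, hk0, hk⟩ := (hS.of_surjective ((MonoidHom.snd _ H).comp e.toMonoidHom)
    fun h => ⟨e.symm (1, h), by simp⟩).nontrivial_iff_card.1 hH
  obtain ⟨h, hh'⟩ := exists_prime_orderOf_dvd_card' (G := H) p (by rw [hk]; exact dvd_pow_self p hk0.ne')
  haveI : NeZero (p ^ n) := ⟨pow_ne_zero _ hpp.ne_zero⟩
  obtain ⟨g, hg⟩ := exists_prime_orderOf_dvd_card' (G := Multiplicative (ZMod (p ^ n))) p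
    (by rw [Nat.card_congr Multiplicative.toAdd, Nat.card_zmod]; exact dvd_pow_self p hn.ne')
  set W := ((Subgroup.zpowers g).prod (Subgroup.zpowers g)).prod (Subgroup.zpowers h)
  have hW : Nat.card W = p * p * p := by
    rw [Nat.card_congr (Subgroup.prodEquiv _ _).toEquiv, Nat.card_prod,
      Nat.card_congr (Subgroup.prodEquiv _ _).toEquiv, Nat.card_prod, Nat.card_zpowers, Nat.card_zpowers, hg, hh']
  have hz : ∀ {C : Type _} [Group C] {c x : C}, orderOf c = p → x ∈ Subgroup.zpowers c → x ^ p = 1 := by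
    intro C _ c x hc hx
    obtain ⟨i, rfl⟩ := hx
    rw [← hc, ← zpow_natCast, zpow_comm, zpow_natCast, pow_orderOf_eq_one, one_zpow]
  have h2 := MetaAction.card_exp_le (p := p) hm (W.map e.symm.toMonoidHom) (by
    rintro _ ⟨w, ⟨⟨h1, h2⟩, h3⟩, rfl⟩
    show e.symm w ^ p = 1
    rw [← map_pow, e.symm.map_eq_one_iff]
    exact Prod.ext (Prod.ext (hz hg h1) (hz hg h2)) (hz hh' h3))
  rw [Subgroup.card_map_of_injective (f := e.symm.toMonoidHom) e.symm.injective, hW, pow_two] at h2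
  have := hpp.one_lt
  nlinarith

theorem isNormal_self_of_inner (h : ∀ P : Subgroup Ω, F.Hom P = (innerFusionSystem S).Hom P) : F.IsNormal S := by
  refine ⟨le_rfl, fun P φ hφ => ?_⟩
  rw [h] at hφ
  obtain ⟨hP, g, hg, he⟩ := hφ
  refine ⟨conjHom _ g, (h _).symm ▸ ⟨sup_le hP le_rfl, g, hg, fun _ => rfl⟩, fun x => (he x).symm, ?_⟩
  ext y
  constructor
  · rintro ⟨x, hx, rfl⟩
    exact S.mul_mem (S.mul_mem hg hx) (S.inv_mem hg)
  · intro hy
    refine ⟨⟨g⁻¹ * y * g, Subgroup.mem_sup_right (S.mul_mem (S.mul_mem (S.inv_mem hg) hy) hg)⟩,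
      S.mul_mem (S.mul_mem (S.inv_mem hg) hy) hg, ?_⟩
    show g * (g⁻¹ * y * g) * g⁻¹ = y
    group

theorem commutative_dihedral_one : ∀ a b : DihedralGroup 1, a * b = b * a := by decide

theorem supersoluble_two_nonabelian {S : Subgroup Ω} [Finite S] {F : FusionSystem S} (hS : IsPGroup 2 S)
    (hm : Cfsg.IsMetacyclic S) (hnab : ¬ ∀ a b : S, a * b = b * a) (hF : F.IsSaturated 2)
    (hD : ¬ ∃ n : ℕ, 2 ≤ n ∧ Nonempty (↥S ≃* DihedralGroup n)) (hSD : ¬ IsQuasiDihedral S)
    (hQ : ¬ ∃ n : ℕ, 2 ≤ n ∧ Nonempty (↥S ≃* QuaternionGroup n)) : F.IsSupersoluble := by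
  haveI : Fact (Nat.Prime 2) := ⟨Nat.prime_two⟩
  have habel : ∀ {B : Type} [Group B], (∀ a b : B, a * b = b * a) → IsEmpty (↥S ≃* B) := fun {B} _ hB =>
    ⟨fun e => hnab fun a b => e.injective (by rw [map_mul, map_mul, hB])⟩
  have hinf : ∀ {B : Type} [Group B], ¬ Finite B → IsEmpty (↥S ≃* B) := fun {B} _ hB =>
    ⟨fun e => hB (Finite.of_equiv _ e.toEquiv)⟩
  have hd : ¬ ∃ m : ℕ, Nonempty (↥S ≃* DihedralGroup m) := by
    rintro ⟨m, ⟨e⟩⟩
    rcases m with _ | _ | m
    · exact (hinf (B := DihedralGroup 0) fun h => not_finite (DihedralGroup 0)).false e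
    · exact (habel (B := DihedralGroup 1) commutative_dihedral_one).false e
    · exact hD ⟨m + 2, by omega, ⟨e⟩⟩
  have hq : ¬ ∃ m : ℕ, Nonempty (↥S ≃* QuaternionGroup m) := by
    rintro ⟨m, ⟨e⟩⟩
    rcases m with _ | _ | m
    · exact (hinf (B := DihedralGroup 0) fun h => not_finite (DihedralGroup 0)).false
        (e.trans QuaternionGroup.quaternionGroupZeroEquivDihedralGroupZero)
    · haveI := QuaternionGroup.quaternionGroup_one_isCyclic
      exact (habel (B := QuaternionGroup 1) IsCyclic.commGroup.mul_comm).false e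
    · exact hQ ⟨m + 2, by omega, ⟨e⟩⟩
  have hin := Cfsg.Agent.S5212.result hS F hF hm (fun ⟨n, k, ⟨e⟩⟩ => (habel mul_comm).false e) hd hq hSD
  refine supersoluble_of_normal hS hF (isNormal_self_of_inner hin) fun H hH => ?_
  have h2 : IsPGroup 2 (MulAut S) := by
    by_contra hA
    rcases MetacyclicTwo.quaternion_or_homocyclic hS hm hA with e | ⟨n, ⟨e⟩⟩
    · exact hQ ⟨2, le_rfl, e⟩
    · exact (habel mul_comm).false e
  haveI := finite_mulAut (X := S)
  have hbot : H = ⊥ := Subgroup.eq_bot_of_card_eq _ (by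
    obtain ⟨k, hk⟩ := (h2.to_subgroup H).exists_card_eq
    exact Nat.eq_one_of_dvd_coprimes (hH.pow_right k) dvd_rfl (dvd_of_eq hk))
  subst hbot
  exact ⟨⟨⟨fun a b => Subsingleton.elim _ _⟩⟩, fun h hh => by rw [Subgroup.mem_bot.1 hh, one_pow]⟩

theorem supersoluble_iff (hS : IsPGroup p S) (hm : Cfsg.IsMetacyclic S) :
    (∀ F : FusionSystem S, F.IsSaturated p → F.IsSupersoluble) ↔
    ¬ ((∃ n : ℕ, 0 < n ∧ Nonempty (↥S ≃* Multiplicative (ZMod (p ^ n)) × Multiplicative (ZMod (p ^ n)))) ∨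
      (p = 2 ∧ ((∃ n : ℕ, 2 ≤ n ∧ Nonempty (↥S ≃* DihedralGroup n)) ∨ IsQuasiDihedral ↥S ∨
        (∃ n : ℕ, 2 ≤ n ∧ Nonempty (↥S ≃* QuaternionGroup n))))) := by
  constructor
  · intro hall
    have hhom : ∀ n : ℕ, 0 < n →
        IsEmpty (↥S ≃* Multiplicative (ZMod (p ^ n)) × Multiplicative (ZMod (p ^ n))) := fun n hn =>
      ⟨fun e => not_repeated_of_supersoluble hS hall ⟨n, PUnit, inferInstance, hn, ⟨e.trans MulEquiv.prodUnique.symm⟩⟩⟩
    rintro (⟨n, hn, ⟨e⟩⟩ | ⟨rfl, h⟩)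
    · exact (hhom n hn).false e
    obtain ⟨s, hs⟩ := hS.exists_card_eq
    rcases h with ⟨n, hn, ⟨e⟩⟩ | hsd | ⟨n, hn, ⟨e⟩⟩
    · rw [Nat.card_congr e.toEquiv, DihedralGroup.nat_card] at hs
      obtain ⟨a, -, rfl⟩ := (Nat.dvd_prime_pow Nat.prime_two).1 (Dvd.intro_left 2 hs)
      rcases Nat.lt_or_ge a 2 with ha | ha
      · obtain rfl : a = 1 := by rcases a with _ | _ | a <;> simp at hn ⊢ <;> omega
        haveI : IsKleinFour (DihedralGroup (2 ^ 1)) := inferInstanceAs (IsKleinFour (DihedralGroup 2))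
        haveI : IsKleinFour (Multiplicative (ZMod 2 × ZMod 2)) := inferInstance
        obtain ⟨e'⟩ := IsKleinFour.nonempty_mulEquiv (G₁ := DihedralGroup (2 ^ 1))
          (G₂ := Multiplicative (ZMod 2 × ZMod 2))
        exact (hhom 1 one_pos).false ((e.trans e').trans (MulEquiv.prodMultiplicative (ZMod 2) (ZMod 2)))
      · obtain ⟨G, _, _, T, hG, ⟨e'⟩⟩ := exists_dihedral' a ha
        exact not_all_supersoluble T (e.trans e'.symm) hG hall
    · obtain ⟨G, _, _, T, hG, ⟨e'⟩⟩ := exists_semidihedral hsd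
      exact not_all_supersoluble T e' hG hall
    · haveI : NeZero n := ⟨by omega⟩
      rw [Nat.card_congr e.toEquiv, Nat.card_eq_fintype_card, QuaternionGroup.card] at hs
      obtain ⟨a, -, rfl⟩ := (Nat.dvd_prime_pow Nat.prime_two).1 (Dvd.intro_left 4 hs)
      obtain ⟨G, _, _, T, hG, ⟨e'⟩⟩ := exists_quaternion a (Nat.pos_of_ne_zero fun h0 => by simp [h0] at hn)
      exact not_all_supersoluble T (e.trans e'.symm) hG hall
  · intro h F hF
    rw [not_or] at h
    by_cases hab : ∀ a b : S, a * b = b * a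
    · exact supersoluble_of_abelian hS hm ⟨⟨hab⟩⟩ hF h.1
    by_cases hp : p = 2
    · subst hp
      obtain ⟨hD, hrest⟩ := not_or.1 fun h' => h.2 ⟨rfl, h'⟩
      exact supersoluble_two_nonabelian hS hm hab hF hD (not_or.1 hrest).1 (not_or.1 hrest).2
    · refine supersoluble_of_normal hS hF ?_ (coprime_autos hp hS hm hab)
      exact Cfsg.Agent.S5234.result p hS F hF S ⟨le_rfl, fun R _ φ hφ z => F.apply_mem hφ z⟩ hp hm

end Cfsg.MetaType
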