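import Cfsg.Agent.Lib.Fusion.AbelianSupersoluble
import Cfsg.Agent.Lib.Fusion.Transport
import Cfsg.Agent.Lib.Fusion.GLTwoSylow
import Cfsg.Agent.Lib.Fusion.PSLSylow
import Cfsg.Agent.Lib.Fusion.Group
import Cfsg.Agent.Lib.PComplement
import Cfsg.Agent.S0261
import Mathlib.FieldTheory.Finite.GaloisField
import Mathlib.NumberTheory.LSeries.PrimesInAP

/-!
A `2`-group that is a Sylow subgroup of a group without normal `2`-complement carries a saturated
system that is not supersoluble; dihedral, quaternion and semidihedral groups all occur so.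
-/

set_option autoImplicit false
set_option linter.unusedSectionVars false
set_option linter.style.haveILetI false

namespace Cfsg.MetaType

open Cfsg FusionSystem Matrix CfsgLib

universe u v

variable {Ω : Type u} [Group Ω] {S : Subgroup Ω} [Finite S]

theorem not_all_supersoluble {G : Type v} [Group G] [Finite G] (T : Sylow 2 G) (e : ↥S ≃* ↥(T : Subgroup G))
    (hG : ¬ HasNormalPComplement 2 G) :
    ¬ ∀ F : FusionSystem S, F.IsSaturated 2 → F.IsSupersoluble := by
  intro hall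
  haveI : Fact (Nat.Prime 2) := ⟨Nat.prime_two⟩
  have hS : IsPGroup 2 S := T.2.of_equiv e.symm
  let f : (T : Subgroup G) →* Ω := S.subtype.comp e.symm.toMonoidHom
  have hf : Function.Injective f := S.subtype_injective.comp e.symm.injective
  have hfr : f.range = S := by
    rw [MonoidHom.range_comp, MonoidHom.range_eq_top.2 e.symm.surjective, ← MonoidHom.range_eq_map, Subgroup.range_subtype]
  obtain ⟨F, hF⟩ := exists_isFactorSystem_bot (groupFusionSystem (T : Subgroup G)) f hf hfr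
  have hsat := hF.isSaturated T.2 (groupFusionSystem_isSaturated T)
  have hss := hall F hsat
  have hN := isNormal_self_of_supersoluble hss hS hsat
  haveI : Finite (MulAut S) := finite_mulAut_of_le le_rfl
  -- the automorphisms of `S` in the system form a `2`-group
  have hA : ∀ a ∈ F.autGroup S, ∃ k : ℕ, a ^ 2 ^ k = 1 := by
    intro a ha
    obtain ⟨k, m, hm, hkm⟩ := Nat.exists_eq_pow_mul_and_not_dvd (orderOf_pos a).ne' 2 (by norm_num)
    refine ⟨k, ?_⟩
    have hd : (a ^ 2 ^ k) ^ m = 1 := by rw [← pow_mul, ← hkm, pow_orderOf_eq_one]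
    have hc : (Nat.card (Subgroup.zpowers (a ^ 2 ^ k))).Coprime 2 := by
      rw [Nat.card_zpowers]
      exact ((Nat.prime_two.coprime_iff_not_dvd.2 hm).symm).coprime_dvd_left (orderOf_dvd_of_pow_eq_one hd)
    obtain ⟨-, h⟩ := pPrime_autos_of_supersoluble hss hS hsat hc (Subgroup.zpowers_le.2 (pow_mem ha _))
    simpa using h _ (Subgroup.mem_zpowers _)
  refine hG (hasNormalPComplement_of_frobeniusCond (frobeniusCond_of_sylow T fun Q hQ g₁ hg₁ ho₁ => ?_))
  -- every element of odd order is a large power of two of another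
  suffices key : ∀ g₀ ∈ Subgroup.normalizer (Q : Set G), ∃ k : ℕ, g₀ ^ 2 ^ k ∈ Subgroup.centralizer (Q : Set G) ∧
      ∀ n : ℕ, k ≤ n → g₀ ^ 2 ^ n ∈ Subgroup.centralizer (Q : Set G) by
    obtain ⟨N, hN2⟩ : ∃ N, Nat.card (MulAut S) ≤ 2 ^ N := ⟨_, Nat.lt_two_pow_self.le⟩
    obtain ⟨k, hk, -⟩ := key g₁ hg₁
    have h1 : g₁ ∈ Subgroup.zpowers (g₁ ^ 2 ^ k) := by
      obtain ⟨m, hm⟩ := exists_pow_eq_self_of_coprime (ho₁.symm.pow_left k)
      exact ⟨(m : ℤ), by show (g₁ ^ 2 ^ k) ^ (m : ℤ) = g₁; rw [zpow_natCast]; exact hm⟩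
    exact (Subgroup.zpowers_le.2 hk) h1
  intro g₀ hg₀
  have hconj : ∀ x ∈ Q, g₀ * x * g₀⁻¹ ∈ (T : Subgroup G) := fun x hx =>
    hQ ((Subgroup.mem_normalizer_iff.1 hg₀ x).1 hx)
  have hφ : conjHom Q g₀ ∈ (groupFusionSystem (T : Subgroup G)).Hom Q := conjHom_mem_groupFusionSystem hQ hconj
  obtain ⟨φ', hφ', hφe⟩ := hF.up hφ
  have himg : imageAlong f Q ≤ S := by
    rintro _ ⟨s, -, rfl⟩
    exact (e.symm s).2
  obtain ⟨ψ, hψ, hψe, hψS⟩ := hN.2 _ φ' hφ'
  have hsup : imageAlong f Q ⊔ S = S := sup_eq_right.2 himg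
  have hres := F.restrict_mem hψ hsup.ge
  have hr : (ψ.comp (Subgroup.inclusion hsup.ge)).range = S :=
    Subgroup.eq_of_le_of_card_ge (F.range_le hres)
      (Nat.card_congr (MonoidHom.ofInjective (F.injective_of_mem hres)).toEquiv).le
  set a : MulAut S := F.isoOf hres hr
  have ha : a ∈ F.autGroup S := F.isoOf_mem_autGroup hres hr
  have hstep : ∀ q : (T : Subgroup G), ∀ hq : (q : G) ∈ Q, a (e.symm q) =
      e.symm ⟨g₀ * q * g₀⁻¹, hconj q hq⟩ := by
    intro q hq
    refine Subtype.ext ?_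
    have hm : f q ∈ imageAlong f Q := ⟨q, hq, rfl⟩
    have h1 := hφe ⟨q, hq⟩ q.2 hm
    have h2 := hψe ⟨f q, hm⟩
    show ψ (Subgroup.inclusion hsup.ge (e.symm q)) = _
    rw [show Subgroup.inclusion hsup.ge (e.symm q) = Subgroup.inclusion le_sup_left ⟨f q, hm⟩ from Subtype.ext rfl, h2]
    exact h1
  have hiter : ∀ n : ℕ, ∀ q : (T : Subgroup G), ∀ hq : (q : G) ∈ Q, ∃ h, (a ^ n) (e.symm q) =
      e.symm ⟨g₀ ^ n * q * (g₀ ^ n)⁻¹, h⟩ := by
    intro n
    induction n with
    | zero => exact fun q hq => ⟨by simp, by simp⟩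
    | succ n ih =>
      intro q hq
      obtain ⟨h, e1⟩ := ih q hq
      have hmem : g₀ ^ n * (q : G) * (g₀ ^ n)⁻¹ ∈ Q :=
        (Subgroup.mem_normalizer_iff.1 (pow_mem hg₀ n) _).1 hq
      have e2 : g₀ * (g₀ ^ n * (q : G) * (g₀ ^ n)⁻¹) * g₀⁻¹ = g₀ ^ (n + 1) * q * (g₀ ^ (n + 1))⁻¹ := by
        rw [pow_succ']; group
      refine ⟨e2 ▸ hconj _ hmem, ?_⟩
      rw [pow_succ', MulAut.mul_apply, e1, hstep _ hmem]
      exact congrArg e.symm (Subtype.ext e2)
  obtain ⟨k, hk⟩ := hA a ha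
  have hfix : ∀ n, k ≤ n → g₀ ^ 2 ^ n ∈ Subgroup.centralizer (Q : Set G) := by
    intro n hn x hx
    obtain ⟨h, e1⟩ := hiter (2 ^ n) ⟨x, hQ hx⟩ hx
    obtain ⟨j, rfl⟩ := Nat.exists_eq_add_of_le hn
    have h' : a ^ 2 ^ (k + j) = 1 := by rw [pow_add, pow_mul, hk, one_pow]
    rw [h', MulAut.one_apply] at e1
    have e2 : x = g₀ ^ 2 ^ (k + j) * x * (g₀ ^ 2 ^ (k + j))⁻¹ :=
      congrArg Subtype.val (e.symm.injective e1)
    exact (mul_inv_eq_iff_eq_mul.1 e2.symm).symm
  exact ⟨k, hfix k le_rfl, hfix⟩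

/-! ### Groups without normal `2`-complement -/

section Groups

variable {F : Type} [Field F] [Fintype F]

theorem hom_range_le {G : Type v} [Group G] [Finite G] (hF : Odd (Fintype.card F))
    (hG : HasNormalPComplement 2 G) (φ : SpecialLinearGroup (Fin 2) F →* G) : φ.range ≤ pPrimeCore 2 G := by
  classical
  haveI : Fact (Nat.Prime 2) := ⟨Nat.prime_two⟩
  obtain ⟨p, hp⟩ := CharP.exists F
  haveI := hp
  have hpp : p.Prime := CharP.char_is_prime F p
  haveI : Fact p.Prime := ⟨hpp⟩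
  have hp2 : p ≠ 2 := by
    rintro rfl
    exact CfsgLib.SL2Orders.two_ne_zero_of_odd hF (by exact_mod_cast CharP.cast_eq_zero F 2)
  rintro _ ⟨M, rfl⟩
  refine SL2.transvection_induction (fun M => φ M ∈ pPrimeCore 2 G) (fun i j hij s => ?_)
    (fun A B hA hB => by rw [map_mul]; exact mul_mem hA hB) M
  refine mem_pPrimeCore_of_hasNormalPComplement hG ?_
  have key : ∀ n : ℕ, Matrix.transvection i j s ^ n = Matrix.transvection i j ((n : F) * s) := by
    intro n
    induction n with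
    | zero => simp
    | succ n ih =>
      rw [pow_succ, ih, Matrix.transvection_mul_transvection_same i j hij]
      congr 1
      push_cast
      ring
  have h1 : (SpecialLinearGroup.transvection hij s) ^ p = 1 := by
    apply Subtype.ext
    show Matrix.transvection i j s ^ p = 1
    rw [key, CharP.cast_eq_zero, zero_mul, Matrix.transvection_zero]
  exact ((Nat.coprime_primes hpp Nat.prime_two).2 hp2).coprime_dvd_left
    (orderOf_dvd_of_pow_eq_one (by rw [← map_pow, h1, map_one]))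

theorem two_dvd_card_range {G : Type v} [Group G] (hF : Odd (Fintype.card F))
    (φ : SpecialLinearGroup (Fin 2) F →* G) (hφ : Function.Injective φ) : 2 ∣ Nat.card φ.range := by
  rw [← Nat.card_congr (MonoidHom.ofInjective hφ).toEquiv]
  have hne : (-1 : SpecialLinearGroup (Fin 2) F) ≠ 1 := fun h => CfsgLib.SL2Orders.two_ne_zero_of_odd hF (by
    have := congrArg (fun A : SpecialLinearGroup (Fin 2) F => (A : Matrix (Fin 2) (Fin 2) F) 0 0) h
    simp at this
    linear_combination -this)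
  have h2 : orderOf (-1 : SpecialLinearGroup (Fin 2) F) = 2 := orderOf_eq_prime (by simp) hne
  exact h2.symm.dvd.trans (orderOf_dvd_natCard (-1 : SpecialLinearGroup (Fin 2) F))

theorem no_complement_of_injective {G : Type v} [Group G] [Finite G] (hF : Odd (Fintype.card F))
    (φ : SpecialLinearGroup (Fin 2) F →* G) (hφ : Function.Injective φ) : ¬ HasNormalPComplement 2 G := fun h => by
  have h1 := (two_dvd_card_range hF φ hφ).trans (Subgroup.card_dvd_of_le (hom_range_le hF h φ))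
  exact (Nat.prime_two.coprime_iff_not_dvd.1 (card_pPrimeCore_coprime (G := G) 2).symm) h1

theorem no_complement_psl (hF : Odd (Fintype.card F))
    (h : 2 ∣ Nat.card (ProjectiveSpecialLinearGroup (Fin 2) F)) :
    ¬ HasNormalPComplement 2 (ProjectiveSpecialLinearGroup (Fin 2) F) := fun hc => by
  have h1 := hom_range_le hF hc (QuotientGroup.mk' (Subgroup.center (SpecialLinearGroup (Fin 2) F)))
  rw [MonoidHom.range_eq_top.2 (QuotientGroup.mk'_surjective _)] at h1
  rw [← Subgroup.card_top, ← top_le_iff.1 h1] at h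
  exact (Nat.prime_two.coprime_iff_not_dvd.1
    (card_pPrimeCore_coprime (G := ProjectiveSpecialLinearGroup (Fin 2) F) 2).symm) h

end Groups

theorem nine_pow_sub_one : ∀ j : ℕ, ∃ o : ℕ, Odd o ∧ 9 ^ 2 ^ j = 2 ^ (j + 3) * o + 1 := by
  intro j
  induction j with
  | zero => exact ⟨1, odd_one, rfl⟩
  | succ j ih =>
    obtain ⟨o, ho, he⟩ := ih
    refine ⟨o * (2 ^ (j + 2) * o + 1), ho.mul (Even.add_one ?_), ?_⟩
    · exact ((Nat.even_pow' (by omega)).2 even_two).mul_right o
    · rw [pow_succ 2 j, pow_mul, he]; ring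

theorem factorization_pow_mul {a o : ℕ} (ho : Odd o) : (2 ^ a * o).factorization 2 = a :=
  CfsgLib.GLTwoSylow.factorization_two a o fun h => Nat.not_even_iff_odd.2 ho (even_iff_two_dvd.2 h)

/-- Generalised quaternion groups occur in `SL₂`. -/
theorem exists_quaternion (k : ℕ) (hk : 1 ≤ k) :
    ∃ (G : Type) (_ : Group G) (_ : Finite G) (T : Sylow 2 G),
      ¬ HasNormalPComplement 2 G ∧ Nonempty (↥(T : Subgroup G) ≃* QuaternionGroup (2 ^ k)) := by
  classical
  haveI : Fact (Nat.Prime 3) := ⟨Nat.prime_three⟩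
  haveI : Fact (Nat.Prime 2) := ⟨Nat.prime_two⟩
  obtain ⟨j, rfl⟩ := Nat.exists_eq_add_of_le hk
  let F := GaloisField 3 (2 ^ j)
  haveI : Fintype F := Fintype.ofFinite F
  have hcard : Fintype.card F = 3 ^ 2 ^ j := by
    rw [← Nat.card_eq_fintype_card]; exact GaloisField.card 3 (2 ^ j) (by positivity)
  have hodd : Odd (Fintype.card F) := by rw [hcard]; exact Odd.pow (by decide)
  refine ⟨SpecialLinearGroup (Fin 2) F, inferInstance, inferInstance, default,
    no_complement_of_injective hodd (MonoidHom.id _) fun _ _ h => h, ?_⟩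
  obtain ⟨k', hk', ⟨e⟩⟩ := Cfsg.Agent.S0261.result hodd (default : Sylow 2 (SpecialLinearGroup (Fin 2) F))
  have hc : Nat.card (↥((default : Sylow 2 (SpecialLinearGroup (Fin 2) F)) : Subgroup (SpecialLinearGroup (Fin 2) F))) = 2 ^ (j + 3) := by
    rw [Sylow.card_eq_multiplicity, CfsgLib.SLCard.card_SL_two, hcard]
    obtain ⟨o, ho, he⟩ := nine_pow_sub_one j
    rw [← pow_mul, mul_comm (2 ^ j) 2, pow_mul, show (3 : ℕ) ^ 2 = 9 by norm_num, he, Nat.add_sub_cancel,
      show 3 ^ 2 ^ j * (2 ^ (j + 3) * o) = 2 ^ (j + 3) * (3 ^ 2 ^ j * o) by ring,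
      factorization_pow_mul ((Odd.pow (by decide)).mul ho)]
  have hne : NeZero (2 ^ k') := ⟨pow_ne_zero _ two_ne_zero⟩
  rw [Nat.card_congr e.toEquiv, Nat.card_eq_fintype_card, QuaternionGroup.card, show 4 * 2 ^ k' = 2 ^ (k' + 2) by ring] at hc
  have := Nat.pow_right_injective le_rfl hc
  rw [show 1 + j = k' by omega]
  exact ⟨e⟩

/-- Dihedral `2`-groups of order at least `8` occur in `PSL₂`. -/
theorem exists_dihedral' (a : ℕ) (ha : 2 ≤ a) :
    ∃ (G : Type) (_ : Group G) (_ : Finite G) (T : Sylow 2 G),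
      ¬ HasNormalPComplement 2 G ∧ Nonempty (↥(T : Subgroup G) ≃* DihedralGroup (2 ^ a)) := by
  classical
  haveI : Fact (Nat.Prime 3) := ⟨Nat.prime_three⟩
  haveI : Fact (Nat.Prime 2) := ⟨Nat.prime_two⟩
  obtain ⟨j, rfl⟩ := Nat.exists_eq_add_of_le (show 1 ≤ a by omega)
  let F := GaloisField 3 (2 ^ j)
  haveI : Fintype F := Fintype.ofFinite F
  have hcard : Fintype.card F = 3 ^ 2 ^ j := by
    rw [← Nat.card_eq_fintype_card]; exact GaloisField.card 3 (2 ^ j) (by positivity)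
  have hodd : Odd (Fintype.card F) := by rw [hcard]; exact Odd.pow (by decide)
  obtain ⟨o, ho, he⟩ := nine_pow_sub_one j
  have hsq : Fintype.card F ^ 2 - 1 = 2 ^ (j + 3) * o := by
    rw [hcard, ← pow_mul, mul_comm (2 ^ j) 2, pow_mul, show (3 : ℕ) ^ 2 = 9 by norm_num, he, Nat.add_sub_cancel]
  obtain ⟨T, n, hn, ⟨e⟩⟩ := CfsgLib.PSLSylow.exists_dihedral (F := F) (Nat.odd_iff.1 hodd) (by
    rw [hsq, show j + 3 = 4 + (j - 1) by omega, pow_add]
    exact (dvd_mul_right 16 _).mul_right o)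
  haveI : NeZero n := ⟨by omega⟩
  have hc : Nat.card (↥(T : Subgroup (ProjectiveSpecialLinearGroup (Fin 2) F))) = 2 ^ (j + 2) := by
    rw [Sylow.card_eq_multiplicity]
    have h := CfsgLib.SLCard.gcd_mul_card_PSL (F := F) (n := 2) (by norm_num)
    rw [CfsgLib.SLCard.card_SL_two, hsq, show Nat.gcd 2 (Fintype.card F - 1) = 2 by
      obtain ⟨t, ht⟩ := hodd; rw [ht]; simp] at h
    rw [show Nat.card (ProjectiveSpecialLinearGroup (Fin 2) F) = 2 ^ (j + 2) * (Fintype.card F * o) by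
      refine Nat.eq_of_mul_eq_mul_left two_pos (h.trans ?_); ring,
      factorization_pow_mul (hodd.mul ho)]
  refine ⟨ProjectiveSpecialLinearGroup (Fin 2) F, inferInstance, inferInstance, T, no_complement_psl hodd ?_, ?_⟩
  · exact ((dvd_pow_self 2 (by omega : j + 2 ≠ 0)).trans hc.symm.dvd).trans (Subgroup.card_subgroup_dvd_card _)
  · rw [Nat.card_congr e.toEquiv, DihedralGroup.nat_card, show j + 2 = 1 + (1 + j) by omega, pow_succ' 2 0 |> fun _ =>
      pow_add 2 1 (1 + j), pow_one] at hc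
    rw [← Nat.eq_of_mul_eq_mul_left two_pos hc]
    exact ⟨e⟩

/-- The multiplication of `ℤ/m` extended by an involution acting as the power `r`. -/
def qdOp (m r : ℕ) (a b : ZMod m × Bool) : ZMod m × Bool :=
  (a.1 + (if a.2 then (r : ZMod m) * b.1 else b.1), Bool.xor a.2 b.2)

theorem quasiDihedral_coords {C : Type*} [Group C] {m : ℕ} [NeZero m] {r : ℕ} {x y : C} (hx : orderOf x = m)
    (hy : y * y = 1) (hyx : y * x * y⁻¹ = x ^ r) (hyn : y ∉ Subgroup.zpowers x) (hC : Nat.card C = 2 * m) :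
    ∃ f : ZMod m × Bool → C, Function.Bijective f ∧ ∀ a b, f a * f b = f (qdOp m r a b) := by
  refine ⟨fun a => x ^ a.1.val * (if a.2 then y else 1), ?_, ?_⟩
  · haveI : Finite C := Nat.finite_of_card_ne_zero (by rw [hC]; exact mul_ne_zero two_ne_zero (NeZero.ne m))
    refine (Nat.bijective_iff_injective_and_card _).2 ⟨?_, ?_⟩
    · rintro ⟨i, b⟩ ⟨j, c⟩ h
      have hbc : b = c := by
        by_contra hne
        apply hyn
        have hp : ∀ t : ℕ, x ^ t ∈ Subgroup.zpowers x := fun t => pow_mem (Subgroup.mem_zpowers x) t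
        rcases b <;> rcases c <;> simp at h hne
        · rw [show y = (x ^ j.val)⁻¹ * x ^ i.val by rw [h]; group]
          exact mul_mem (inv_mem (hp _)) (hp _)
        · rw [show y = (x ^ i.val)⁻¹ * x ^ j.val by rw [← h]; group]
          exact mul_mem (inv_mem (hp _)) (hp _)
      subst hbc
      have h' : x ^ i.val = x ^ j.val := mul_right_cancel h
      rw [pow_eq_pow_iff_modEq, hx] at h'
      have : ((i.val : ℕ) : ZMod m) = ((j.val : ℕ) : ZMod m) := (ZMod.natCast_eq_natCast_iff _ _ _).2 h'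
      rw [ZMod.natCast_zmod_val, ZMod.natCast_zmod_val] at this
      rw [this]
    · rw [Nat.card_prod, Nat.card_zmod, hC, Nat.card_eq_fintype_card, Fintype.card_bool, mul_comm]
  · rintro ⟨i, b⟩ ⟨j, c⟩
    have hadd : ∀ s t : ZMod m, x ^ s.val * x ^ t.val = x ^ (s + t).val := fun s t => by
      rw [← pow_add, pow_eq_pow_iff_modEq, hx, ← ZMod.natCast_eq_natCast_iff, Nat.cast_add]
      simp
    have hyj : y * x ^ j.val = x ^ ((r : ZMod m) * j).val * y := by
      have h1 : (y * x * y⁻¹) ^ j.val = x ^ ((r : ZMod m) * j).val := by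
        rw [hyx, ← pow_mul, pow_eq_pow_iff_modEq, hx, ← ZMod.natCast_eq_natCast_iff]
        push_cast
        simp
      rw [← h1, conj_pow, inv_mul_cancel_right]
    show x ^ i.val * (if b then y else 1) * (x ^ j.val * (if c then y else 1)) = _
    rcases b <;> rcases c <;> simp only [qdOp, Bool.false_eq_true, if_false, if_true, mul_one, Bool.xor_false, Bool.xor_true, Bool.not_false, Bool.not_true, Bool.false_xor]
    · exact hadd i j
    · rw [← mul_assoc, hadd]
    · rw [mul_assoc, hyj, ← mul_assoc, hadd]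
    · rw [mul_assoc, ← mul_assoc y, hyj, mul_assoc _ y y, hy, mul_one, hadd]


theorem quasiDihedral_equiv {A B : Type*} [Group A] [Group B] {m : ℕ} [NeZero m] {r : ℕ}
    {x y : A} (hx : orderOf x = m) (hy : y * y = 1) (hyx : y * x * y⁻¹ = x ^ r) (hyn : y ∉ Subgroup.zpowers x)
    (hA : Nat.card A = 2 * m)
    {x' y' : B} (hx' : orderOf x' = m) (hy' : y' * y' = 1) (hyx' : y' * x' * y'⁻¹ = x' ^ r)
    (hyn' : y' ∉ Subgroup.zpowers x') (hB : Nat.card B = 2 * m) : Nonempty (A ≃* B) := by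
  classical
  obtain ⟨f, hf, hfop⟩ := quasiDihedral_coords hx hy hyx hyn hA
  obtain ⟨g, hg, hgop⟩ := quasiDihedral_coords hx' hy' hyx' hyn' hB
  let ef := Equiv.ofBijective f hf
  let eg := Equiv.ofBijective g hg
  refine ⟨{ toEquiv := ef.symm.trans eg, map_mul' := fun a b => ?_ }⟩
  obtain ⟨a, rfl⟩ := ef.surjective a
  obtain ⟨b, rfl⟩ := ef.surjective b
  show eg (ef.symm (f a * f b)) = eg (ef.symm (ef a)) * eg (ef.symm (ef b))
  rw [hfop, show f (qdOp m r a b) = ef (qdOp m r a b) from rfl, Equiv.symm_apply_apply, Equiv.symm_apply_apply, Equiv.symm_apply_apply]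
  exact (hgop a b).symm

theorem quasiDihedral_not_mem {C : Type*} [Group C] {n : ℕ} (hn : 3 ≤ n) {x y : C} (hx : orderOf x = 2 ^ n)
    (hyx : y * x * y⁻¹ = x ^ (2 ^ (n - 1) - 1)) : y ∉ Subgroup.zpowers x := by
  intro hmem
  obtain ⟨i, rfl⟩ := hmem
  rw [((Commute.refl x).zpow_left i).eq, mul_inv_cancel_right] at hyx
  have h1 : x ^ (2 ^ (n - 1) - 2) = 1 := by
    refine (mul_eq_left (a := x)).1 ?_
    have h4 : 2 ≤ 2 ^ (n - 1) := Nat.le_self_pow (by omega) 2
    rw [← pow_succ', show 2 ^ (n - 1) - 2 + 1 = 2 ^ (n - 1) - 1 by omega]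
    exact hyx.symm
  have h2 := orderOf_dvd_of_pow_eq_one h1
  rw [hx] at h2
  have h4 : 4 ≤ 2 ^ (n - 1) := (show (4 : ℕ) = 2 ^ 2 by norm_num) ▸ Nat.pow_le_pow_right two_pos (by omega)
  have h5 := Nat.le_of_dvd (by omega) h2
  have h6 : 2 ^ (n - 1) ≤ 2 ^ n := Nat.pow_le_pow_right two_pos (by omega)
  omega

theorem mul_self_of_orderOf_two {C : Type*} [Group C] {y : C} (hy : orderOf y = 2) : y * y = 1 := by
  rw [← pow_two, ← hy, pow_orderOf_eq_one]

theorem quasiDihedral_unique {A B : Type*} [Group A] [Group B] (hA : IsQuasiDihedral A) (hB : IsQuasiDihedral B)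
    (h : Nat.card A = Nat.card B) : Nonempty (A ≃* B) := by
  obtain ⟨n, hn, hAc, x, y, hx, hy, hyx⟩ := hA
  obtain ⟨n', -, hBc, x', y', hx', hy', hyx'⟩ := hB
  rw [hAc, hBc] at h
  obtain rfl : n = n' := by have := Nat.pow_right_injective le_rfl h; omega
  haveI : NeZero (2 ^ n) := ⟨pow_ne_zero _ two_ne_zero⟩
  exact quasiDihedral_equiv hx (mul_self_of_orderOf_two hy) hyx (quasiDihedral_not_mem hn hx hyx) (by rw [hAc, pow_succ'])
    hx' (mul_self_of_orderOf_two hy') hyx' (quasiDihedral_not_mem hn hx' hyx') (by rw [hBc, pow_succ'])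

/-- Semidihedral groups occur in `GL₂`. -/
theorem exists_semidihedral {B : Type*} [Group B] (hB : IsQuasiDihedral B) :
    ∃ (G : Type) (_ : Group G) (_ : Finite G) (T : Sylow 2 G),
      ¬ HasNormalPComplement 2 G ∧ Nonempty (B ≃* ↥(T : Subgroup G)) := by
  classical
  haveI : Fact (Nat.Prime 2) := ⟨Nat.prime_two⟩
  obtain ⟨n, hn, hc, -⟩ := id hB
  obtain ⟨d, rfl⟩ := Nat.exists_eq_add_of_le hn
  obtain ⟨q, -, hq, hmod⟩ := Nat.forall_exists_prime_gt_and_modEq 2 (q := 2 ^ (3 + d)) (a := 2 ^ (2 + d) - 1)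
    (pow_ne_zero _ two_ne_zero) (by
      refine Nat.Coprime.pow_right _ ((Nat.prime_two.coprime_iff_not_dvd.2 ?_).symm)
      have := Nat.one_le_two_pow (n := 1 + d)
      rw [show 2 + d = 1 + d + 1 by omega, pow_succ]
      omega)
  haveI : Fact q.Prime := ⟨hq⟩
  obtain ⟨c, hqc⟩ : ∃ c, q + 1 = 2 ^ (2 + d) * (2 * c + 1) := by
    have h1 : 2 ^ (2 + d) - 1 < 2 ^ (3 + d) := by
      have : 2 ^ (2 + d) ≤ 2 ^ (3 + d) := Nat.pow_le_pow_right two_pos (by omega)
      have := Nat.one_le_two_pow (n := 2 + d)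
      omega
    have h2 : q % 2 ^ (3 + d) = 2 ^ (2 + d) - 1 := by
      have := hmod
      rwa [Nat.ModEq, Nat.mod_eq_of_lt h1] at this
    refine ⟨q / 2 ^ (3 + d), ?_⟩
    have h3 := Nat.div_add_mod q (2 ^ (3 + d))
    rw [h2] at h3
    have := Nat.one_le_two_pow (n := 2 + d)
    have e : 2 ^ (2 + d) * (2 * (q / 2 ^ (3 + d)) + 1) = 2 ^ (3 + d) * (q / 2 ^ (3 + d)) + 2 ^ (2 + d) := by
      rw [show 3 + d = 2 + d + 1 by omega, pow_succ]; ring
    omega
  have h4 : q % 4 = 3 := by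
    rw [show 2 + d = 2 + d from rfl, pow_add, mul_assoc] at hqc
    omega
  obtain ⟨t, ht⟩ : ∃ t, q - 1 = 2 * t ∧ Odd t := by
    refine ⟨(q - 1) / 2, by omega, Nat.odd_iff.2 (by omega)⟩
  have hodd : Odd (Fintype.card (ZMod q)) := by rw [ZMod.card]; exact Nat.odd_iff.2 (by omega)
  obtain ⟨T, hT⟩ := CfsgLib.GLTwoSylow.exists_quasiDihedral (F := ZMod q) (by rw [ZMod.card]; exact h4)
  refine ⟨GL (Fin 2) (ZMod q), inferInstance, inferInstance, T,
    no_complement_of_injective hodd SpecialLinearGroup.toGL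
      (fun A B h => Subtype.ext (congrArg Units.val h)), quasiDihedral_unique hB hT ?_⟩
  rw [hc, Sylow.card_eq_multiplicity, CfsgLib.GLTwoSylow.card_GL2, ZMod.card, hqc, ht.1,
    show q * (2 * t * (2 * t) * (2 ^ (2 + d) * (2 * c + 1))) = 2 ^ (3 + d + 1) * (q * (t * t * (2 * c + 1))) by ring,
    factorization_pow_mul ((Nat.odd_iff.2 (by omega)).mul ((ht.2.mul ht.2).mul (odd_two_mul_add_one c)))]

end Cfsg.MetaType
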